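import Cfsg.Agent.H62.SpEmb
import Cfsg.Agent.S0245
import Cfsg.Agent.S0246
import Cfsg.Agent.S0270
import Cfsg.Agent.S0814

/-!
# The stabiliser of a point in `Sp₈(q)`, `q` even (helper7, project SM)

`Z`, `Zm` opposite transvection groups, `R = q^7`, `L = Sp₆(q)`.
-/

set_option autoImplicit false

namespace Cfsg.Agent.SM.S8

open Cfsg Cfsg.Agent.ClassicalGeometry.SympBasic Cfsg.Agent.ClassicalGeometry.SympSiegel Cfsg.Agent.H62.SpEmb

/-- the local structure -/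
structure Loc8 (F : Type) [Field F] (q a : ℕ) {N : Type} [Group N] (Z Zm R L : Subgroup N) : Prop where
  cardZ : Nat.card Z = q
  cardR : Nat.card R = q ^ 7
  pR : IsPGroup 2 R
  ZR : Z ≤ R
  sqR : ∀ y ∈ R, y * y = 1
  comR : ∀ y ∈ R, ∀ z ∈ R, y * z = z * y
  nR : ∀ l ∈ L, ∀ y ∈ R, l * y * l⁻¹ ∈ R
  cenL : ∀ g, g ∈ L ↔ (∀ z ∈ Z, g * z = z * g) ∧ ∀ z ∈ Zm, g * z = z * g
  fixR : ∀ g ∈ R, (∀ l ∈ L, g * l = l * g) → g ∈ Z
  cz : ∀ z ∈ Z, z ≠ 1 → Subgroup.centralizer {z} = R ⊔ L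
  isoL : Nonempty (L ≃* Matrix.symplecticGroup (Fin 3) F)
  o2L : ∀ P : Subgroup N, P ≤ L → IsPGroup 2 P → (∀ l ∈ L, ∀ y ∈ P, l * y * l⁻¹ ∈ P) → P = ⊥
  gen : R ⊔ Zm = ⊤
  w : ∃ w ∈ Z ⊔ Zm, w * w = 1 ∧ ∀ z, z ∈ Z ↔ w * z * w⁻¹ ∈ Zm
  np : ¬ IsPGroup 2 ↥(Z ⊔ Zm)
  simple : IsSimpleGroup N
  nonab : ¬ IsMulCommutative N
  cardN : Nat.card N = q ^ 16 * ((q ^ 2 - 1) * (q ^ 4 - 1) * (q ^ 6 - 1) * (q ^ 8 - 1))
  aut : Nat.card (MulAut N) = Nat.card N * a

theorem Loc8.comap {F : Type} [Field F] {q a : ℕ} {N N' : Type} [Group N] [Group N'] {Z Zm R L : Subgroup N}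
    (h : Loc8 F q a Z Zm R L) (e : N' ≃* N) : Loc8 F q a (Z.comap e.toMonoidHom) (Zm.comap e.toMonoidHom)
      (R.comap e.toMonoidHom) (L.comap e.toMonoidHom) := by
  have h0 : ∀ X : Subgroup N, X.comap e.toMonoidHom ≃* X := fun X =>
    { toFun := fun x => ⟨e x, x.2⟩
      invFun := fun x => ⟨e.symm x, by simp⟩
      left_inv := fun x => Subtype.ext (e.symm_apply_apply x)
      right_inv := fun x => Subtype.ext (e.apply_symm_apply x)
      map_mul' := fun x y => Subtype.ext (map_mul e (x : N') y) }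
  have h1 : ∀ X Y : Subgroup N, X.comap e.toMonoidHom ⊔ Y.comap e.toMonoidHom = (X ⊔ Y).comap e.toMonoidHom :=
    fun X Y => Subgroup.comap_sup_eq _ _ _ e.surjective
  have h2 : ∀ {X : Subgroup N} {g : N'}, (∀ z ∈ X.comap e.toMonoidHom, g * z = z * g) ↔ ∀ z ∈ X, e g * z = z * e g :=
    fun {X g} => ⟨fun k z hz => by simpa using congrArg e (k (e.symm z) (by simpa using hz)),
      fun k z hz => e.injective (by rw [map_mul, map_mul]; exact k _ hz)⟩
  obtain ⟨w, w1, w2, w3⟩ := h.w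
  have := h.simple
  refine ⟨(Nat.card_congr (h0 Z).toEquiv).trans h.cardZ, (Nat.card_congr (h0 R).toEquiv).trans h.cardR, h.pR.of_equiv (h0 R).symm,
    Subgroup.comap_mono h.ZR, fun y hy => e.injective (by rw [map_mul, map_one]; exact h.sqR _ hy),
    fun y hy => h2.2 (h.comR _ hy), fun l hl y hy => by simpa using h.nR _ hl _ hy, fun g => by rw [h2, h2]; exact h.cenL _,
    fun g hg k => h.fixR _ hg (h2.1 k), fun z hz k => ?_, h.isoL.map (h0 L).trans, fun P k1 k2 k3 => ?_,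
    by rw [h1, h.gen, Subgroup.comap_top], ⟨e.symm w, by rw [h1]; simpa using w1, e.injective (by simpa using w2),
      fun z => by simpa using w3 (e z)⟩, fun k => h.np ((h1 Z Zm ▸ k).of_equiv (h0 _)), e.isSimpleGroup,
    fun k => h.nonab ⟨⟨fun x y => e.symm.injective (by rw [map_mul, map_mul]; exact k.1.1 _ _)⟩⟩,
    (Nat.card_congr e.toEquiv).trans h.cardN, ?_⟩
  · rw [h1, ← h.cz _ hz fun m => k (e.injective (m.trans (map_one e).symm))]
    ext g
    rw [Subgroup.mem_comap, Subgroup.mem_centralizer_singleton_iff, Subgroup.mem_centralizer_singleton_iff, ← e.injective.eq_iff,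
      map_mul, map_mul]
    rfl
  · refine (Subgroup.map_eq_bot_iff_of_injective P (f := e.toMonoidHom) e.injective).1
      (h.o2L _ (Subgroup.map_le_iff_le_comap.2 k1) (k2.map _) ?_)
    rintro l hl _ ⟨y, hy, rfl⟩
    exact ⟨_, k3 (e.symm l) (by simpa using hl) y hy, by simp⟩
  · rw [Nat.card_congr (MulAut.congr e).toEquiv, Nat.card_congr e.toEquiv, h.aut]

section sp

variable {F : Type} [Field F] {n : ℕ}

/-- the transvections with a fixed centre -/
def tg (u : Fin n ⊕ Fin n → F) : Subgroup (Matrix.symplecticGroup (Fin n) F) where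
  carrier := {g | ∃ t : F, g = transv u t}
  mul_mem' := by
    rintro _ _ ⟨a, rfl⟩ ⟨b, rfl⟩
    exact ⟨a + b, transv_mul u a b⟩
  one_mem' := ⟨0, (transv_zero u).symm⟩
  inv_mem' := by
    rintro _ ⟨a, rfl⟩
    exact ⟨-a, transv_inv u a⟩

variable (F n) in
/-- the unipotent radical -/
def rg : Subgroup (Matrix.symplecticGroup (Fin (n + 1)) F) where
  carrier := {g | ∃ x c, g = sg x c}
  mul_mem' := by
    rintro _ _ ⟨x, a, rfl⟩ ⟨y, b, rfl⟩
    exact ⟨_, _, sg_mul x y a b⟩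
  one_mem' := ⟨0, 0, sg_zero.symm⟩
  inv_mem' := by
    rintro _ ⟨x, a, rfl⟩
    exact ⟨_, _, sg_inv x a⟩

theorem sg_tv (t : F) : sg (n := n) 0 t = transv (e F n) (-t) := by rw [sg, ext_zero, siegel_zero_eq_transv]

theorem sg_inj {x y : Fin n ⊕ Fin n → F} {c d : F} (h : sg x c = sg y d) : x = y ∧ c = d :=
  (siegel_inj form_e_v₀ (form_e_ext x) (form_e_ext y) (form_ext_v₀ x) (form_ext_v₀ y) h).imp_left fun k => ext_injective k

theorem tv_inj {u v : Fin n ⊕ Fin n → F} (h : sympForm n F v u ≠ 0) {a b : F} (k : transv u a = transv u b) : a = b := by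
  have h2 := congrArg (fun g : Matrix.symplecticGroup (Fin n) F => g • v) k
  simp only [transv_smul] at h2
  exact mul_right_cancel₀ h (smul_left_injective F (fun m => h (by rw [m, sympForm_zero_right])) (add_left_cancel h2))

theorem form_v₀_e : sympForm (n + 1) F (v₀ F n) (e F n) = -1 := by rw [sympForm_swap, form_e_v₀]

theorem comm_tv {g : Matrix.symplecticGroup (Fin n) F} {u : Fin n ⊕ Fin n → F} (h : g • u = u) (t : F) :
    g * transv u t = transv u t * g := by rw [← mul_inv_eq_iff_eq_mul, conj_transv, h]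

variable (h2 : (2 : F) = 0)
include h2

theorem neg_self (t : F) : -t = t := by linear_combination (-t) * h2

theorem fix_of_comm {g : Matrix.symplecticGroup (Fin n) F} {u v : Fin n ⊕ Fin n → F} (h : sympForm n F v u ≠ 0) {t : F} (ht : t ≠ 0)
    (k : g * transv u t = transv u t * g) : g • u = u := by
  rw [← mul_inv_eq_iff_eq_mul, conj_transv] at k
  have h3 : ∀ x, sympForm n F x (g • u) • g • u = sympForm n F x u • u := fun x => by
    have h3 := congrArg (fun g : Matrix.symplecticGroup (Fin n) F => g • x) k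
    simp only [transv_smul, mul_smul] at h3
    exact smul_right_injective _ ht (add_left_cancel h3)
  have h4 := congrArg (sympForm n F v) (h3 v)
  rw [sympForm_smul_right, sympForm_smul_right] at h4
  have h5 : sympForm n F v (g • u) = sympForm n F v u :=
    (mul_self_eq_mul_self_iff.1 h4).elim id fun m => m.trans (neg_self h2 _)
  have h6 := h3 v
  rw [h5] at h6
  exact smul_right_injective _ h h6

theorem tv_sq (u : Fin n ⊕ Fin n → F) (t : F) : transv u t * transv u t = 1 := by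
  rw [transv_mul, ← two_mul, h2, zero_mul, transv_zero]

theorem w_eq : transv (e F n) 1 * transv (v₀ F n) 1 * transv (e F n) 1 = transv (e F n + v₀ F n) (1 : F) := by
  have k := conj_transv (transv (e F n) (1 : F)) (v₀ F n) 1
  rwa [transv_inv, transv_smul, form_v₀_e, neg_self h2, one_mul, one_smul, add_comm (v₀ F n)] at k

theorem w_eq' : transv (v₀ F n) 1 * transv (e F n) 1 * transv (v₀ F n) 1 = transv (e F n + v₀ F n) (1 : F) := by
  have k := conj_transv (transv (v₀ F n) (1 : F)) (e F n) 1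
  rwa [transv_inv, transv_smul, form_e_v₀, neg_self h2, one_mul, one_smul] at k

theorem w_e : transv (e F n + v₀ F n) (1 : F) • e F n = v₀ F n := by
  rw [transv_smul, sympForm_add_right, sympForm_self, form_e_v₀, zero_add, one_mul, one_smul, ← add_assoc, ← two_smul F, h2,
    zero_smul, zero_add]

theorem nonab (n : ℕ) : ¬ IsMulCommutative (Matrix.symplecticGroup (Fin (n + 1)) F) := fun k => by
  have k1 : sympForm (n + 1) F (v₀ F n) (e F n) ≠ 0 := by rw [form_v₀_e]; exact neg_ne_zero.2 one_ne_zero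
  have m := fix_of_comm h2 k1 one_ne_zero (k.1.1 (transv (e F n + v₀ F n) 1) (transv (e F n) 1))
  rw [w_e h2] at m
  exact k1 (by rw [m, sympForm_self])

omit h2 in
theorem tv_mem (u : Fin (n + 1) ⊕ Fin (n + 1) → F) (t : F) : transv u t ∈ rg F n ⊔ tg (v₀ F n) := by
  have h1 : ∀ (u : Fin (n + 1) ⊕ Fin (n + 1) → F) (t : F), sympForm (n + 1) F (e F n) u ≠ 0 → transv u t ∈ rg F n ⊔ tg (v₀ F n) :=
    fun u t h => by
      rw [form_e] at h
      have k : u = u (.inl 0) • sg ((u (.inl 0))⁻¹ • res u) ((u (.inl 0))⁻¹ * u (.inr 0)) • v₀ F n := by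
        rw [sg_smul_v₀, H62.SpEmb.ext_smul, smul_add, smul_add, smul_smul, smul_smul, ← mul_assoc, mul_inv_cancel₀ h, one_smul,
          one_mul]
        exact (decomp u).trans (by abel)
      rw [k, transv_smul_vec, ← conj_transv]
      exact mul_mem (Subgroup.mul_mem_sup ⟨_, _, rfl⟩ ⟨_, rfl⟩) (inv_mem (Subgroup.mem_sup_left ⟨_, _, rfl⟩))
  by_cases h : sympForm (n + 1) F (e F n) u = 0
  · by_cases h0 : u = 0
    · rw [h0, ← zero_smul F (v₀ F n), transv_smul_vec]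
      exact Subgroup.mem_sup_right ⟨_, rfl⟩
    obtain ⟨z, k1, k2⟩ := exists_both_ne_zero (e_ne (F := F) (n := n)) h0
    have k3 := h1 (transv z (1 : F) • u) t (by
      rw [transv_smul, sympForm_add_right, h, zero_add, sympForm_smul_right, one_mul]
      exact mul_ne_zero k2 k1)
    rwa [← conj_transv, Subgroup.mul_mem_cancel_right _ (inv_mem (h1 z 1 k1)), Subgroup.mul_mem_cancel_left _ (h1 z 1 k1)] at k3
  · exact h1 u t h

end sp

section main

variable {F : Type} [Field F] [Fintype F] {a : ℕ}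

theorem gcd_eq (ha : 1 ≤ a) : Nat.gcd 2 (2 ^ a - 1) = 1 := by
  obtain ⟨g, rfl⟩ := Nat.exists_eq_add_of_le ha
  have : 0 < 2 ^ g := by positivity
  refine Nat.coprime_two_left.2 ?_
  rw [pow_add, Nat.odd_iff]
  omega

theorem exists_equiv (hF : Fintype.card F = 2 ^ a) (ha : 1 ≤ a) {m : ℕ} (hm : 1 ≤ m) :
    Nonempty (PSp m F ≃* Matrix.symplecticGroup (Fin m) F) :=
  ⟨(QuotientGroup.quotientMulEquivOfEq (Subgroup.eq_bot_of_card_eq _ ((S0246.result hF m hm).trans (gcd_eq ha)))).trans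
    QuotientGroup.quotientBot⟩

theorem simple_sp (hF : Fintype.card F = 2 ^ a) (ha : 1 ≤ a) {m : ℕ} (hm : 3 ≤ m) :
    IsSimpleGroup (Matrix.symplecticGroup (Fin m) F) := by
  obtain ⟨e⟩ := exists_equiv hF ha (m := m) (by omega)
  have := S0270.result (F := F) m (by omega) (by omega)
  exact e.symm.isSimpleGroup

theorem not_pgroup (h2 : (2 : F) = 0) (n : ℕ) : ¬ IsPGroup 2 ↥(tg (e F n) ⊔ tg (v₀ F n)) := fun h => by
  obtain ⟨k, hk⟩ := h ⟨transv (e F n) 1 * transv (v₀ F n) 1, Subgroup.mul_mem_sup ⟨_, rfl⟩ ⟨_, rfl⟩⟩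
  have h1 : (transv (e F n) (1 : F) * transv (v₀ F n) 1) ^ 2 ^ k = 1 := congrArg Subtype.val hk
  have h3 : (transv (e F n) (1 : F) * transv (v₀ F n) 1) ^ 3 = 1 := by
    rw [← tv_sq h2 (e F n + v₀ F n) 1]
    nth_rewrite 1 [← w_eq h2]
    rw [← w_eq' h2]
    simp only [pow_succ, pow_zero, one_mul, mul_assoc]
  have h4 := congrArg (· • v₀ F n) ((pow_eq_one_iff_of_coprime (Nat.Coprime.pow_left k (by norm_num))).1 ⟨h1, h3⟩)
  simp only [mul_smul, transv_smul, sympForm_self, form_v₀_e, mul_zero, zero_smul, add_zero, one_smul, add_eq_left] at h4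
  exact e_ne (by simpa using h4)

theorem loc8 (hF : Fintype.card F = 2 ^ a) (ha : 1 ≤ a) :
    Loc8 F (2 ^ a) a (tg (e F 3)) (tg (v₀ F 3)) (rg F 3) (emb (F := F) (n := 3)).range := by
  have h2 : (2 : F) = 0 := by
    have k := FiniteField.cast_card_eq_zero F
    rw [hF, Nat.cast_pow, Nat.cast_ofNat] at k
    exact pow_eq_zero_iff (by omega) |>.1 k
  have k1 : sympForm 4 F (v₀ F 3) (e F 3) ≠ 0 := by rw [form_v₀_e]; exact neg_ne_zero.2 one_ne_zero
  have k2 : sympForm 4 F (e F 3) (v₀ F 3) ≠ 0 := by rw [form_e_v₀]; exact one_ne_zero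
  have s3 := simple_sp hF ha (m := 3) le_rfl
  have s4 := simple_sp hF ha (m := 4) (by norm_num)
  have k3 : tg (e F 3) ≤ rg F 3 := by
    rintro _ ⟨t, rfl⟩
    exact ⟨0, -t, by rw [sg_tv, neg_neg]⟩
  have k4 : ∀ y ∈ rg F 3, y * y = 1 := by
    rintro _ ⟨x, c, rfl⟩
    rw [sg_mul, sympForm_self, ← two_smul F, ← two_mul, h2, zero_smul, zero_mul, add_zero, sg_zero]
  have k5 : transv (e F 3) (1 : F) ≠ 1 := fun m => one_ne_zero (tv_inj k1 (m.trans (transv_zero _).symm))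
  have el := (MonoidHom.ofInjective (emb_injective (F := F) (n := 3))).symm
  refine ⟨?_, ?_, fun y => ⟨1, Subtype.ext (by rw [pow_one, sq]; exact k4 _ y.2)⟩, k3, k4, fun y hy z hz => ?_, ?_,
    fun g => ⟨?_, fun k => ?_⟩, ?_, ?_, ⟨el⟩, fun P m1 m2 m3 => ?_, ?_,
    ⟨transv (e F 3 + v₀ F 3) 1, ?_, tv_sq h2 _ _, fun z => ⟨?_, ?_⟩⟩, not_pgroup h2 3, s4, fun k => ?_, ?_, ?_⟩
  · rw [← hF, ← Nat.card_eq_fintype_card]
    exact (Nat.card_eq_of_bijective (fun t : F => (⟨transv (e F 3) t, t, rfl⟩ : tg (e F 3)))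
      ⟨fun _ _ m => tv_inj k1 (congrArg Subtype.val m), fun ⟨_, t, m⟩ => ⟨t, Subtype.ext m.symm⟩⟩).symm
  · rw [← Nat.card_eq_of_bijective (fun z : (Fin 3 ⊕ Fin 3 → F) × F => (⟨sg z.1 z.2, _, _, rfl⟩ : rg F 3))
      ⟨fun _ _ m => Prod.ext_iff.2 (sg_inj (congrArg Subtype.val m)), fun ⟨_, x, t, m⟩ => ⟨(x, t), Subtype.ext m.symm⟩⟩,
      Nat.card_prod, Nat.card_fun, Nat.card_eq_fintype_card, hF, Nat.card_eq_fintype_card]
    simp only [Fintype.card_sum, Fintype.card_fin]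
    ring
  · rw [← inv_eq_of_mul_eq_one_right (k4 _ (mul_mem hy hz)), mul_inv_rev, inv_eq_of_mul_eq_one_right (k4 _ hy),
      inv_eq_of_mul_eq_one_right (k4 _ hz)]
  · rintro _ ⟨A, rfl⟩ _ ⟨x, c, rfl⟩
    exact ⟨_, _, conj_sg A x c⟩
  · rintro ⟨A, rfl⟩
    exact ⟨fun _ ⟨t, m⟩ => m ▸ comm_tv (emb_smul_e A) t, fun _ ⟨t, m⟩ => m ▸ comm_tv (emb_smul_v₀ A) t⟩
  · obtain ⟨A, m⟩ := exists_emb (fix_of_comm h2 k1 one_ne_zero (k.1 _ ⟨1, rfl⟩)) (fix_of_comm h2 k2 one_ne_zero (k.2 _ ⟨1, rfl⟩))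
    exact ⟨A, m.symm⟩
  · rintro _ ⟨x, c, rfl⟩ k
    obtain rfl : x = 0 := by
      by_contra h0
      obtain ⟨y, hy⟩ := exists_form_eq_one h0
      have m := (k _ ⟨transv y 1, rfl⟩).symm
      rw [← mul_inv_eq_iff_eq_mul, conj_sg] at m
      have m1 := (sg_inj m).1
      rw [transv_smul, hy, one_mul, one_smul, add_eq_left] at m1
      rw [m1, sympForm_zero_right] at hy
      exact zero_ne_one hy
    exact ⟨_, sg_tv c⟩
  · rintro _ ⟨t, rfl⟩ ht
    refine le_antisymm (fun g hg => ?_) (sup_le ?_ ?_)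
    · obtain ⟨x, c, A, rfl⟩ := exists_stab (fix_of_comm h2 k1 (fun m => ht (by rw [m, transv_zero]))
        (Subgroup.mem_centralizer_singleton_iff.1 hg))
      exact Subgroup.mul_mem_sup ⟨_, _, rfl⟩ ⟨A, rfl⟩
    · rintro _ ⟨x, c, rfl⟩
      exact Subgroup.mem_centralizer_singleton_iff.2 (comm_tv (sg_smul_e x c) t)
    · rintro _ ⟨A, rfl⟩
      exact Subgroup.mem_centralizer_singleton_iff.2 (comm_tv (emb_smul_e A) t)
  · have := el.isSimpleGroup
    rcases (⟨fun y hy l => m3 _ l.2 _ hy⟩ : (P.subgroupOf (emb (F := F) (n := 3)).range).Normal).eq_bot_or_eq_top with k | k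
    · rwa [Subgroup.subgroupOf_eq_bot, disjoint_iff, inf_eq_left.2 m1] at k
    · obtain rfl := le_antisymm m1 (Subgroup.subgroupOf_eq_top.1 k)
      exact (not_pgroup h2 2 ((m2.of_equiv el).to_subgroup _)).elim
  · rcases (rg F 3 ⊔ tg (v₀ F 3)).normalCore_normal.eq_bot_or_eq_top with k | k
    · refine (k5 (Subgroup.mem_bot.1 (k ▸ fun b => ?_))).elim
      rw [conj_transv]
      exact tv_mem _ _
    · exact eq_top_iff.2 (k ▸ Subgroup.normalCore_le _)
  · rw [← w_eq h2]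
    exact mul_mem (Subgroup.mul_mem_sup ⟨_, rfl⟩ ⟨_, rfl⟩) (Subgroup.mem_sup_left ⟨_, rfl⟩)
  · rintro ⟨t, rfl⟩
    exact ⟨t, by rw [conj_transv, w_e h2]⟩
  · rintro ⟨t, m⟩
    exact ⟨t, mul_left_cancel (mul_right_cancel (m.trans (by rw [conj_transv, w_e h2])))⟩
  · exact nonab h2 3 k
  · rw [S0245.result hF 4]
    simp only [Finset.prod_range_succ, Finset.prod_range_zero, one_mul]
    norm_num
  · obtain ⟨e⟩ := exists_equiv hF ha (m := 4) (by norm_num)
    rw [← Nat.card_congr (MulAut.congr e).toEquiv, ← Nat.card_congr e.toEquiv,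
      S0814.result 2 a ha hF 4 (by norm_num) (by norm_num), gcd_eq ha, mul_comm]
    simp

/-- **The local structure of `Sp₈(2^a)`.** -/
theorem exists_loc8 (hF : Fintype.card F = 2 ^ a) (ha : 1 ≤ a) {N : Type} [Group N]
    (φ : N ≃* Matrix.symplecticGroup (Fin 4) F) : ∃ Z Zm R L : Subgroup N, Loc8 F (2 ^ a) a Z Zm R L :=
  ⟨_, _, _, _, (loc8 hF ha).comap φ⟩

end main

end Cfsg.Agent.SM.S8
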